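import Mathlib
import Groth.Prelude.Def_SGA1
import Groth.Agent.Lib.Helper7.QFSplit.Main

/-! helper7: a surjective morphism of finite type to the spectrum of a complete Noetherian local
ring with finite closed fibre into which every point specialises is universally submersive
(S5114). -/

set_option linter.style.haveILetI false
set_option linter.unusedVariables false
set_option linter.unusedSectionVars false
set_option autoImplicit false
set_option backward.isDefEq.respectTransparency.types false
set_option maxHeartbeats 1600000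

universe u

namespace Groth.Agent.Helper7.CompleteSub

open CategoryTheory CategoryTheory.Limits AlgebraicGeometry

/-- over an affine henselian local base, a point of a scheme locally of finite type lying over
the closed point and isolated in its fibre has an open affine neighbourhood which is finite over
the base (no separatedness needed; adapted from `QFSplit.exists_clopen_finite_nhd`) -/
theorem exists_open_finite_nhd {X Y : Scheme.{u}} [IsAffine Y] [HenselianLocalRing Γ(Y, ⊤)]
    (f : X ⟶ Y) [LocallyOfFiniteType f] (x : X)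
    (hx : IsClosed ({f x} : Set Y)) (hqf : f.QuasiFiniteAt x) :
    ∃ W : X.Opens, x ∈ W ∧ IsAffineOpen W ∧ IsFinite (W.ι ≫ f) := by
  obtain ⟨_, ⟨V, hV : IsAffineOpen V, rfl⟩, hxV, -⟩ :=
    X.isBasis_affineOpens.exists_subset_of_mem_open (Set.mem_univ x) isOpen_univ
  have hU : IsAffineOpen (⊤ : Y.Opens) := isAffineOpen_top Y
  have hVU : V ≤ f ⁻¹ᵁ ⊤ := by simp
  have hft : (f.appLE ⊤ V hVU).hom.FiniteType := f.finiteType_appLE hU hV hVU
  have hq := hqf.quasiFiniteAt hV hU hVU hxV
  set q := hV.primeIdealOf ⟨x, hxV⟩ with hqdef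
  algebraize [(f.appLE ⊤ V hVU).hom]
  have hq' : Algebra.QuasiFiniteAt Γ(Y, ⊤) q.asIdeal := hq
  have hcomap : q.asIdeal.comap (algebraMap Γ(Y, ⊤) Γ(X, V)) =
      IsLocalRing.maximalIdeal Γ(Y, ⊤) := by
    have h1 := IsAffineOpen.comap_primeIdealOf_appLE (f := f) (x := x) ⊤ hU V hV hVU hxV
    have h2 : (hU.primeIdealOf ⟨f x, hVU hxV⟩).asIdeal.IsMaximal :=
      hU.primeIdealOf_isMaximal_of_isClosed ⟨f x, hVU hxV⟩ hx
    have h3 := IsLocalRing.eq_maximalIdeal h2
    rw [← h3, ← h1]
    rfl
  obtain ⟨e, he, hfin, hne⟩ := Groth.Agent.Helper7.Hensel.exists_idempotent_split Γ(Y, ⊤) Γ(X, V)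
    {q} (by intro q' hq''; rw [Finset.mem_singleton] at hq''; subst hq''; exact hq')
  have heq : e ∉ q.asIdeal := by
    apply hne q (Finset.mem_singleton_self q)
    rw [Ideal.map_le_iff_le_comap, hcomap]
  let W : X.Opens := X.basicOpen e
  have hWV : W ≤ V := X.basicOpen_le e
  have hW : IsAffineOpen W := hV.basicOpen e
  have hxW : x ∈ W := by
    have h1 : hV.fromSpec q = x := hV.fromSpec_primeIdealOf ⟨x, hxV⟩
    have h2 : q ∈ hV.fromSpec ⁻¹ᵁ X.basicOpen e := by
      rw [hV.fromSpec_preimage_basicOpen]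
      exact heq
    rw [← h1]
    exact h2
  have hfinW : (f.appLE ⊤ W (by simp)).hom.Finite := by
    let ψ : Γ(X, V) →+* Γ(X, W) := (X.presheaf.map (homOfLE hWV).op).hom
    have hψe : ψ e = 1 := by
      have hu : IsUnit (ψ e) := RingedSpace.isUnit_res_basicOpen X.toRingedSpace e
      have hid : ψ e * ψ e = ψ e := by rw [← map_mul, he.eq]
      have := hu.mul_left_cancel (a := ψ e) (b := ψ e) (c := 1) (by rw [hid, mul_one])
      exact this
    have hψ0 : ∀ a ∈ Ideal.span ({1 - e} : Set Γ(X, V)), ψ a = 0 := by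
      intro a ha
      rw [Ideal.mem_span_singleton'] at ha
      obtain ⟨b, rfl⟩ := ha
      rw [map_mul, map_sub, map_one, hψe, sub_self, mul_zero]
    let ψ' : Γ(X, V) ⧸ Ideal.span ({1 - e} : Set Γ(X, V)) →+* Γ(X, W) :=
      Ideal.Quotient.lift _ ψ hψ0
    haveI := hV.isLocalization_basicOpen e
    have hψsurj : Function.Surjective ψ := by
      have := IsLocalization.Away.algebraMap_surjective_of_isIdempotentElem
        (S := Γ(X, X.basicOpen e)) e he
      exact this
    have hψ'surj : Function.Surjective ψ' := by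
      intro b
      obtain ⟨a, rfl⟩ := hψsurj b
      exact ⟨Ideal.Quotient.mk _ a, rfl⟩
    have hcomp : (f.appLE ⊤ W (by simp)).hom =
        ψ'.comp (algebraMap Γ(Y, ⊤) (Γ(X, V) ⧸ Ideal.span ({1 - e} : Set Γ(X, V)))) := by
      have h1 : f.appLE ⊤ V hVU ≫ X.presheaf.map (homOfLE hWV).op = f.appLE ⊤ W (by simp) :=
        Scheme.Hom.appLE_map f hVU (homOfLE hWV).op
      rw [← h1]
      ext a
      rfl
    rw [hcomp]
    exact RingHom.Finite.comp (RingHom.Finite.of_surjective _ hψ'surj)
      (RingHom.finite_algebraMap.2 hfin)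
  have hfinite : IsFinite (W.ι ≫ f) := by
    have h1 : IsFinite (Spec.map (f.appLE ⊤ W (by simp))) := (IsFinite.SpecMap_iff _).2 hfinW
    have h2 := IsAffineOpen.SpecMap_appLE_fromSpec f hU hW (by simp)
    have h3 : IsFinite (hW.fromSpec ≫ f) := by
      rw [← h2, IsAffineOpen.fromSpec_top]
      infer_instance
    have h4 : W.ι ≫ f = hW.isoSpec.hom ≫ hW.fromSpec ≫ f := by
      rw [← Category.assoc, hW.isoSpec_hom_fromSpec]
    rw [h4]
    infer_instance
  exact ⟨W, hxW, hW, hfinite⟩

/-- a surjective morphism dominated by a finite, jointly surjective family of morphisms whose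
composites with it are universally closed is universally submersive -/
theorem univSubmersive_of_family {S' S : Scheme.{u}} (g : S' ⟶ S) [Surjective g]
    {J : Type u} [Finite J] (T : J → Scheme.{u}) (c : ∀ j, T j ⟶ S')
    (hc : ∀ j, UniversallyClosed (c j ≫ g))
    (hsurj : ∀ t : S', ∃ j, t ∈ Set.range (c j).base) : SGA1.UnivSubmersive g := by
  intro X' Y' i₁ i₂ g' hpb
  haveI : Surjective g' :=
    MorphismProperty.of_isPullback (P := @Surjective) hpb.flip inferInstance
  have hcl : ∀ j, IsClosedMap (pullback.snd (c j) i₁ ≫ g').base := by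
    intro j
    have hp := ((IsPullback.of_hasPullback (c j) i₁).flip).paste_horiz hpb
    haveI : UniversallyClosed (pullback.snd (c j) i₁ ≫ g') :=
      MorphismProperty.of_isPullback (P := @UniversallyClosed) hp.flip (hc j)
    exact (pullback.snd (c j) i₁ ≫ g').isClosedMap
  change Topology.IsQuotientMap g'.base
  refine Topology.isQuotientMap_iff_isClosed.mpr ⟨g'.surjective, fun Z =>
    ⟨fun hZ => hZ.preimage g'.continuous, fun hZ => ?_⟩⟩
  have hZeq : Z = ⋃ j, (pullback.snd (c j) i₁ ≫ g').base ''
      ((pullback.snd (c j) i₁ ≫ g').base ⁻¹' Z) := by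
    ext z
    constructor
    · intro hz
      obtain ⟨p, rfl⟩ := g'.surjective z
      obtain ⟨j, t, ht⟩ := hsurj (i₁.base p)
      obtain ⟨r, hr1, hr2⟩ := Scheme.Pullback.exists_preimage_pullback (f := c j) (g := i₁) t p ht
      have hr3 : (pullback.snd (c j) i₁ ≫ g').base r = g'.base p := by
        rw [Scheme.Hom.comp_apply, hr2]
      refine Set.mem_iUnion.mpr ⟨j, r, ?_, hr3⟩
      rw [Set.mem_preimage, hr3]
      exact hz
    · intro hz
      obtain ⟨j, r, hr, rfl⟩ := Set.mem_iUnion.mp hz
      exact hr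
  rw [hZeq]
  refine isClosed_iUnion_of_finite (fun j => hcl j _ ?_)
  exact hZ.preimage (pullback.snd (c j) i₁).continuous

/-- **S5114** -/
theorem main (A : Type u) [CommRing A]
    [IsNoetherianRing A] [IsLocalRing A] [IsAdicComplete (IsLocalRing.maximalIdeal A) A]
    {S' : Scheme.{u}} (g : S' ⟶ Spec (CommRingCat.of A)) [LocallyOfFiniteType g]
    [Surjective g]
    (hfin : (g.base ⁻¹' {IsLocalRing.closedPoint A}).Finite)
    (hsp : ∀ t : S', ∃ s' : S', g.base s' = IsLocalRing.closedPoint A ∧ t ⤳ s') :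
    SGA1.UnivSubmersive g := by
  haveI : HenselianLocalRing A :=
    Groth.Agent.Helper7.QFSplit.henselianLocalRing_of_isAdicComplete A
  haveI := Groth.Agent.Helper7.QFSplit.henselianLocalRing_Γ_Spec A
  have hqf : ∀ s' : S', g.base s' = IsLocalRing.closedPoint A → g.QuasiFiniteAt s' := by
    intro s' hs'
    rw [Scheme.Hom.quasiFiniteAt_iff_isOpen_singleton_asFiber]
    have hfin' : (g.base ⁻¹' {g.base s'}).Finite := by rw [hs']; exact hfin
    haveI : Finite ↥(g.base ⁻¹' {g.base s'}) := hfin'.to_subtype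
    haveI : Finite ↥(g.fiber (g.base s')) :=
      Finite.of_equiv _ (g.fiberHomeo (g.base s')).symm.toEquiv
    haveI : LocallyOfFiniteType (g.fiberToSpecResidueField (g.base s')) :=
      MorphismProperty.pullback_snd _ _ inferInstance
    haveI : LocallyQuasiFinite (g.fiberToSpecResidueField (g.base s')) :=
      LocallyQuasiFinite.of_finite_preimage_singleton _ (fun x => Set.toFinite _)
    haveI : IsLocallyArtinian (g.fiber (g.base s')) :=
      IsLocallyArtinian.of_locallyQuasiFinite (g.fiberToSpecResidueField (g.base s'))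
    exact isOpen_discrete _
  have hnhd : ∀ j : ↥(g.base ⁻¹' {IsLocalRing.closedPoint A}),
      ∃ W : S'.Opens, j.1 ∈ W ∧ IsAffineOpen W ∧ IsFinite (W.ι ≫ g) := by
    intro j
    have hj : g.base j.1 = IsLocalRing.closedPoint A := j.2
    apply exists_open_finite_nhd g j.1 _ (hqf j.1 hj)
    rw [hj]
    exact IsLocalRing.isClosed_singleton_closedPoint A
  choose W hW1 hW2 hW3 using hnhd
  haveI : Finite ↥(g.base ⁻¹' {IsLocalRing.closedPoint A}) := hfin.to_subtype
  apply univSubmersive_of_family g (fun j => ((W j : S'.Opens) : Scheme.{u})) (fun j => (W j).ι)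
  · intro j
    haveI := hW3 j
    infer_instance
  · intro t
    obtain ⟨s', hs', hts'⟩ := hsp t
    refine ⟨⟨s', hs'⟩, ?_⟩
    rw [Scheme.Opens.range_ι]
    exact hts'.mem_open (W ⟨s', hs'⟩).2 (hW1 ⟨s', hs'⟩)

end Groth.Agent.Helper7.CompleteSub
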