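import Mathlib
import Groth.Agent.Lib.Helper4.ChevCrit8
import Groth.Agent.Lib.Helper7.ChevUO.Main
import Groth.Prelude.Def_SGA1

/-! helper7: universally submersive families of quasi-finite morphisms over a geometrically unibranch
irreducible Noetherian scheme (S13731, S13736). -/

set_option backward.isDefEq.respectTransparency.types false
set_option synthInstance.maxHeartbeats 400000
set_option autoImplicit false
set_option linter.unusedSectionVars false
set_option linter.style.haveILetI false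
set_option linter.unusedSimpArgs false
universe u v w
open CategoryTheory CategoryTheory.Limits AlgebraicGeometry TopologicalSpace IsLocalRing Opposite
open Cardinal AffineSpace MvPolynomial
open Groth.Agent.Lib.Helper4.DimIneq1 Groth.Agent.Lib.Helper4.DimFT2 Groth.Agent.Lib.Helper4.Catenary1
open Groth.Agent.Lib.Helper4.DimEq1 Groth.Agent.Lib.Helper4.DimIneq2 Groth.Agent.Lib.Helper4.DimEq2
open Groth.Agent.Lib.Helper4.DimIneq3 Groth.Agent.Lib.Helper4.DimIneq4
open Groth.Agent.Lib.Helper4.NormFibre2 Groth.Agent.Lib.Helper4.RadBir3 Groth.Agent.Lib.Helper4.DimFT3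
open Groth.Agent.Lib.Helper4.FibDim1 Groth.Agent.Lib.Helper4.FibDim2 Groth.Agent.Lib.Helper4.LocUC1
open Groth.Agent.Lib.Helper4.FibDim3 Groth.Agent.Lib.Helper4.FibDim4 Groth.Agent.Lib.Helper4.FibDim5
open Groth.Agent.Lib.Helper4.FibDim6 Groth.Agent.Lib.Helper4.FibDim7 Groth.Agent.Lib.Helper4.JacDim1
open Groth.Agent.Lib.Helper4.DimFT1
open Groth.Agent.Lib.Helper4.Chev2 Groth.Agent.Lib.Helper4.Chev5 Groth.Agent.Lib.Helper4.Chev6 Groth.Agent.Lib.Helper4.Chev8
open Groth.Agent.Lib.Helper4.JacDim4 Groth.Agent.Lib.Helper4.EffCartierDim1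
open Groth.Agent.Lib.Helper4.Chev9 Groth.Agent.Lib.Helper4.Chev4
open Groth.Agent.Lib.Helper4.Chev10 Groth.Agent.Lib.Helper4.Chev11 Groth.Agent.Lib.Helper4.Chev3 Groth.Agent.Lib.Helper4.Equi1 Groth.Agent.Lib.Helper4.Equi2 Groth.Agent.Lib.Helper4.OpenAt1 Groth.Agent.Lib.Helper4.Equi3 Groth.Agent.Lib.Helper4.Equi4 Groth.Agent.Lib.Helper4.Equi5 Groth.Agent.Lib.Helper4.Equi6 Groth.Agent.Lib.Helper4.Equi7 Groth.Agent.Lib.Helper4.Aff1 Groth.Agent.Lib.Helper4.Aff2 Groth.Agent.Lib.Helper4.Equi10 Groth.Agent.Lib.Helper4.Val1 Groth.Agent.Lib.Helper4.BaseChg1 Groth.Agent.Lib.Helper4.UnivOpen1 Groth.Agent.Lib.Helper4.FibClosure1 Groth.Agent.Lib.Helper4.OpenNoeth1 Groth.Agent.Lib.Helper4.SecComp1 Groth.Agent.Lib.Helper4.SecComp2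
open Groth.Agent.Lib.Helper4.SecComp3 Groth.Agent.Lib.Helper4.PropDim1 Groth.Agent.Lib.Helper4.ZMTNormalPt1 Groth.Agent.Lib.Helper4.UO Groth.Agent.Lib.Helper4.UOp
open Groth.Agent.Lib.Helper4.ChevCrit1 Groth.Agent.Lib.Helper4.ChevCrit2 Groth.Agent.Lib.Helper4.ChevCrit3
open Groth.Agent.Lib.Helper4.IrrCompDomain1 Groth.Agent.Lib.Helper4.RadBir1
open Groth.Agent.Lib.Helper4.ChevCrit4
open Groth.Agent.Lib.Helper4.ChevCrit5
open Groth.Agent.Lib.Helper4.DedekindOpen1 Groth.Agent.Lib.Helper4.UnivOpenT1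
open Groth.Agent.Lib.Helper4.ChevCrit7

open Groth.Agent.Lib.Helper4.ChevCrit8
set_option linter.unusedVariables false
set_option maxHeartbeats 1600000

namespace Groth.Agent.Helper7.QfhCov

theorem exists_generization_of_mem_closure {P : Scheme.{u}} [IsLocallyNoetherian P] (U : Set P)
    (hU : IsOpen U) (w : P) (hw : w ∈ closure U) : ∃ w' ∈ U, w' ⤳ w := by
  have hlf := Groth.Agent.Lib.Helper4.LocFinComp1.main P U
  have hUeq : U = ⋃ T : ↥(irreducibleComponents ↥U), ((↑) '' (T.1 : Set ↥U) : Set ↥P) := by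
    ext p
    constructor
    · intro hp
      exact Set.mem_iUnion.mpr ⟨⟨irreducibleComponent (⟨p, hp⟩ : ↥U),
        irreducibleComponent_mem_irreducibleComponents _⟩, ⟨⟨p, hp⟩, mem_irreducibleComponent, rfl⟩⟩
    · intro hp
      obtain ⟨T, a, -, rfl⟩ := Set.mem_iUnion.mp hp
      exact a.2
  have hw' : w ∈ closure (⋃ T : ↥(irreducibleComponents ↥U),
      ((↑) '' (T.1 : Set ↥U) : Set ↥P)) := by
    rw [← hUeq]
    exact hw
  rw [hlf.closure_iUnion] at hw'
  obtain ⟨T, hT⟩ := Set.mem_iUnion.mp hw'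
  haveI : QuasiSober ↥U := hU.isOpenEmbedding_subtypeVal.quasiSober
  obtain ⟨γ, hγ⟩ := QuasiSober.sober T.2.1 (isClosed_of_mem_irreducibleComponents _ T.2)
  refine ⟨γ.1, γ.2, ?_⟩
  rw [specializes_iff_mem_closure]
  have h1 : closure ((↑) '' (T.1 : Set ↥U) : Set ↥P) = closure {γ.1} := by
    rw [← hγ.def, closure_image_closure continuous_subtype_val, Set.image_singleton]
  rw [← h1]
  exact hT

theorem exists_generization_over_maximal {X : Scheme.{u}} [IsLocallyNoetherian X]
    (E : PreZeroHypercover.{u} X) [∀ i, LocallyOfFiniteType (E.f i)]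
    (hE : SGA1.UnivSubmersive (Sigma.desc E.f)) (x : X) :
    ∃ (i : E.I₀) (ξ u : E.X i), ξ ⤳ u ∧ E.f i u = x ∧
      closure {E.f i ξ} ∈ irreducibleComponents ↥X := by
  obtain ⟨η, hxη, hηmax⟩ := exists_isMax_ge X x
  have hηx : η ⤳ x := hxη
  have hcomp : closure ({η} : Set X) ∈ irreducibleComponents (X : Type u) :=
    closure_mem_irreducibleComponents_of_isMax X η hηmax
  have hpt : ∀ a : ↥(∐ E.X), ∃ (i : E.I₀) (u : E.X i), (Sigma.ι E.X i).base u = a := by
    intro a
    obtain ⟨i, u, hu⟩ := (sigmaOpenCover E.X).exists_eq a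
    exact ⟨i, u, hu⟩
  have hdesc : ∀ (i : E.I₀) (u : E.X i),
      (Sigma.desc E.f).base ((Sigma.ι E.X i).base u) = (E.f i).base u := by
    intro i u
    rw [← Scheme.Hom.comp_apply, Sigma.ι_desc]
  by_cases hne : η = x
  · have hq : Topology.IsQuotientMap (Sigma.desc E.f).base :=
      hE (𝟙 _) (𝟙 _) (Sigma.desc E.f) IsPullback.of_id_snd
    obtain ⟨a, ha⟩ := hq.surjective x
    obtain ⟨i, u, rfl⟩ := hpt a
    refine ⟨i, u, u, specializes_rfl, ?_, ?_⟩
    · rw [← ha]
      exact (hdesc i u).symm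
    · have h1 : (E.f i).base u = η := by rw [← hdesc, ha, hne]
      change closure {(E.f i).base u} ∈ _
      rw [h1]
      exact hcomp
  · obtain ⟨R, _, _, _, h, hcl, hgen⟩ := exists_dvr_of_specializes η x hηx hne
    haveI : LocallyOfFiniteType (Sigma.desc E.f) :=
      IsZariskiLocalAtSource.sigmaDesc (fun i => inferInstance)
    haveI : IsLocallyNoetherian (pullback (Sigma.desc E.f) h) :=
      LocallyOfFiniteType.isLocallyNoetherian (pullback.snd (Sigma.desc E.f) h)
    have hq : Topology.IsQuotientMap (pullback.snd (Sigma.desc E.f) h).base :=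
      hE (pullback.fst _ _) h (pullback.snd _ _) (IsPullback.of_hasPullback _ _).flip
    obtain ⟨s, hs⟩ : ∃ s : ↥(Spec (CommRingCat.of R)), s = IsLocalRing.closedPoint R := ⟨_, rfl⟩
    have hsclosed : IsClosed ({s} : Set ↥(Spec (CommRingCat.of R))) := by
      rw [hs]
      exact IsLocalRing.isClosed_singleton_closedPoint R
    have hsnotopen : ¬ IsOpen ({s} : Set ↥(Spec (CommRingCat.of R))) := by
      intro ho
      have h1 : (⟨⊥, Ideal.isPrime_bot⟩ : PrimeSpectrum R) ∈
          ({s} : Set ↥(Spec (CommRingCat.of R))) :=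
        (dvr_bot_specializes R s).mem_open ho rfl
      exact dvr_bot_ne_closedPoint R (h1.trans hs)
    have hpre : ¬ IsOpen ((pullback.snd (Sigma.desc E.f) h).base ⁻¹' {s}) := by
      intro ho
      exact hsnotopen (hq.isOpen_preimage.mp ho)
    have hcompl : IsOpen ((pullback.snd (Sigma.desc E.f) h).base ⁻¹' {s})ᶜ :=
      (hsclosed.preimage (pullback.snd (Sigma.desc E.f) h).continuous).isOpen_compl
    obtain ⟨w, hw1, hw2⟩ : ∃ w, w ∈ (pullback.snd (Sigma.desc E.f) h).base ⁻¹' {s} ∧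
        w ∈ closure ((pullback.snd (Sigma.desc E.f) h).base ⁻¹' {s})ᶜ := by
      by_contra hcon
      push Not at hcon
      apply hpre
      rw [← isClosed_compl_iff, ← closure_subset_iff_isClosed]
      intro w hw hmem
      exact hcon w hmem hw
    obtain ⟨w', hw'1, hw'2⟩ := exists_generization_of_mem_closure _ hcompl w hw2
    have hcond : ∀ p : ↥(pullback (Sigma.desc E.f) h),
        (Sigma.desc E.f).base ((pullback.fst (Sigma.desc E.f) h).base p) =
          h.base ((pullback.snd (Sigma.desc E.f) h).base p) := by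
      intro p
      rw [← Scheme.Hom.comp_apply, ← Scheme.Hom.comp_apply, pullback.condition]
    obtain ⟨i, u, hu⟩ := hpt ((pullback.fst (Sigma.desc E.f) h).base w)
    have hsp : (pullback.fst (Sigma.desc E.f) h).base w' ⤳
        (pullback.fst (Sigma.desc E.f) h).base w :=
      hw'2.map (pullback.fst (Sigma.desc E.f) h).continuous
    have hmem : (pullback.fst (Sigma.desc E.f) h).base w' ∈ Set.range (Sigma.ι E.X i).base := by
      apply hsp.mem_open (Sigma.ι E.X i).isOpenEmbedding.isOpen_range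
      exact ⟨u, hu⟩
    obtain ⟨ξ, hξ⟩ := hmem
    refine ⟨i, ξ, u, ?_, ?_, ?_⟩
    · rw [← (Sigma.ι E.X i).isEmbedding.isInducing.specializes_iff, hξ, hu]
      exact hsp
    · rw [← hdesc, hu, hcond]
      have h1 : (pullback.snd (Sigma.desc E.f) h).base w = s := hw1
      rw [h1, hs, hcl]
    · rw [← hdesc, hξ, hcond]
      have h1 : (pullback.snd (Sigma.desc E.f) h).base w' ≠ IsLocalRing.closedPoint R := by
        intro h2
        apply hw'1
        change (pullback.snd (Sigma.desc E.f) h).base w' = s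
        rw [h2, hs]
      rw [dvr_eq_bot_of_ne_closedPoint R _ h1, hgen]
      exact hcomp

theorem universallyOpen_of_dominant_lqf {U X : Scheme.{u}} [IrreducibleSpace U]
    [IrreducibleSpace X] (hX : ∀ x : X, CAlg2.IsGeomUnibranch (X.presheaf.stalk x)) (p : U ⟶ X)
    [LocallyOfFiniteType p] [LocallyQuasiFinite p] [IsDominant p] : UniversallyOpen p := by
  apply universallyOpen_of_forall_isUnivOpenAt
  intro u
  apply Groth.Agent.Helper7.ChevUO.isUnivOpenAt_of_irreducible p u _ (hX _)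
  rw [fibreDimAt_eq_zero_of_locallyQuasiFinite, tr_eq_zero_of_locallyQuasiFinite]

theorem univSubmersive_of_universallyOpen_surjective {X Y : Scheme.{u}} (g : X ⟶ Y)
    [UniversallyOpen g] [Surjective g] : SGA1.UnivSubmersive g := by
  intro X' Y' i₁ i₂ g' hpb
  haveI : UniversallyOpen g' :=
    MorphismProperty.of_isPullback (P := @UniversallyOpen) hpb.flip inferInstance
  haveI : Surjective g' :=
    MorphismProperty.of_isPullback (P := @Surjective) hpb.flip inferInstance
  exact g'.isOpenMap.isQuotientMap g'.continuous g'.surjective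

theorem univSubmersive_of_comp {X Y Z : Scheme.{u}} (c : X ⟶ Y) (d : Y ⟶ Z)
    (h : SGA1.UnivSubmersive (c ≫ d)) : SGA1.UnivSubmersive d := by
  intro Y' Z' i₁ i₂ d' hpb
  have hpb2 : IsPullback (pullback.snd c i₁) (pullback.fst c i₁) i₁ c :=
    (IsPullback.of_hasPullback c i₁).flip
  have hp := hpb2.paste_horiz hpb
  have hq : Topology.IsQuotientMap (pullback.snd c i₁ ≫ d').base := h _ _ _ hp
  have hq' : Topology.IsQuotientMap (⇑d'.base ∘ ⇑(pullback.snd c i₁).base) := hq
  exact Topology.IsQuotientMap.of_comp (pullback.snd c i₁).continuous d'.continuous hq'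

/-- **S13736** -/
theorem main13736 {X : Scheme.{u}} [IsLocallyNoetherian X] [IrreducibleSpace ↥X]
    (hX : ∀ x : X, CAlg2.IsGeomUnibranch (X.presheaf.stalk x)) (E : PreZeroHypercover.{u} X)
    [∀ i, LocallyOfFiniteType (E.f i)] [∀ i, LocallyQuasiFinite (E.f i)]
    [∀ i, IrreducibleSpace ↥(E.X i)] :
    (SGA1.UnivSubmersive (Sigma.desc E.f) ↔
      ∀ x : X, ∃ (i : E.I₀) (u : E.X i), IsDominant (E.f i) ∧ E.f i u = x) ∧
    ((∀ x : X, ∃ (i : E.I₀) (u : E.X i), IsDominant (E.f i) ∧ E.f i u = x) →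
      SGA1.UnivSubmersive (Sigma.desc fun j : {i : E.I₀ // IsDominant (E.f i)} => E.f j.1)) := by
  have key : (∀ x : X, ∃ (i : E.I₀) (u : E.X i), IsDominant (E.f i) ∧ E.f i u = x) →
      SGA1.UnivSubmersive (Sigma.desc fun j : {i : E.I₀ // IsDominant (E.f i)} => E.f j.1) := by
    intro hcov
    haveI : ∀ j : {i : E.I₀ // IsDominant (E.f i)}, UniversallyOpen (E.f j.1) := fun j => by
      haveI := j.2
      exact universallyOpen_of_dominant_lqf hX (E.f j.1)
    haveI : UniversallyOpen (Sigma.desc fun j : {i : E.I₀ // IsDominant (E.f i)} => E.f j.1) :=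
      IsZariskiLocalAtSource.sigmaDesc (fun j => inferInstance)
    haveI : Surjective (Sigma.desc fun j : {i : E.I₀ // IsDominant (E.f i)} => E.f j.1) := by
      apply Surjective.sigmaDesc_of_union_range_eq_univ
      rw [Set.eq_univ_iff_forall]
      intro x
      obtain ⟨i, u, hi, hu⟩ := hcov x
      exact Set.mem_iUnion.mpr ⟨⟨i, hi⟩, u, hu⟩
    exact univSubmersive_of_universallyOpen_surjective _
  refine ⟨⟨fun hE x => ?_, fun hcov => ?_⟩, key⟩
  · obtain ⟨i, ξ, u, hξu, hu, hcomp⟩ := exists_generization_over_maximal E hE x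
    refine ⟨i, u, ⟨?_⟩, hu⟩
    rw [irreducibleComponents_eq_singleton, Set.mem_singleton_iff] at hcomp
    intro y
    have h1 : y ∈ closure {E.f i ξ} := by
      rw [hcomp]
      trivial
    exact closure_mono (Set.singleton_subset_iff.mpr (Set.mem_range_self ξ)) h1
  · have h1 := key hcov
    have hfac : Sigma.desc (fun j : {i : E.I₀ // IsDominant (E.f i)} => Sigma.ι E.X j.1) ≫
        Sigma.desc E.f = Sigma.desc fun j : {i : E.I₀ // IsDominant (E.f i)} => E.f j.1 := by
      apply Sigma.hom_ext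
      intro j
      rw [Sigma.ι_desc_assoc, Sigma.ι_desc, Sigma.ι_desc]
    rw [← hfac] at h1
    exact univSubmersive_of_comp _ _ h1

end Groth.Agent.Helper7.QfhCov
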